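import Cfsg.Agent.H30.RIM.LargeKill
import Cfsg.Agent.H149.RI.Red
import Cfsg.Agent.H620.RIM.Mult
import Cfsg.Agent.KFacts.Baby.RowB
import Cfsg.Agent.KFacts.Baby.CaseM
import Cfsg.Agent.BM.KHAll

/-!
# S4816, the Baby Monster: `EK p B` for `p = 3, 5` (helper30)

`2^{1+22} ≤ C_B(z)`, `p` divides `|Co_2|`, `|B| ^ 4 < 3 ^ 2048`.
-/

set_option autoImplicit false

namespace Cfsg.Agent.H30.RIM.Baby

open Cfsg Cfsg.Agent.BabyM Cfsg.Agent.BabyM.Model Cfsg.Agent.BabyU.ClosModel
open Cfsg.Agent.BabyU.ClosLane Cfsg.Agent.Co2Type.Quad Cfsg.Agent.H665.RIM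

universe u

/-- transport of large extraspecial subgroups -/
theorem large_map {G K : Type*} [Group G] [Group K] (e : G ≃* K) {Q : Subgroup G} {z : G} (h : Large Q z) :
    Large (Q.map e.toMonoidHom) (e z) where
  z_mem := ⟨z, h.z_mem, rfl⟩
  z_ne := fun h1 => h.z_ne (e.injective (h1.trans (map_one e).symm))
  z_sq := by rw [← map_mul, h.z_sq, map_one]
  comm_z := by
    rintro _ ⟨x, hx, rfl⟩
    exact (map_mul e x z).symm.trans ((congrArg e (h.comm_z x hx)).trans (map_mul e z x))
  conj_mem := by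
    rintro g hg _ ⟨x, hx, rfl⟩
    obtain ⟨g, rfl⟩ := e.surjective g
    refine ⟨g * x * g⁻¹, h.conj_mem g ?_ x hx, ?_⟩
    · apply e.injective
      rw [map_mul, map_mul, hg]
    · show e (g * x * g⁻¹) = e g * e x * (e g)⁻¹
      rw [map_mul, map_mul, map_inv]
  sq := by
    rintro _ ⟨x, hx, rfl⟩
    rcases h.sq x hx with h1 | h1
    · left
      show e x * e x = 1
      rw [← map_mul, h1, map_one]
    · right
      show e x * e x = e z
      rw [← map_mul, h1]
  comm := by
    rintro _ ⟨x, hx, rfl⟩ _ ⟨y, hy, rfl⟩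
    rcases h.comm x hx y hy with h1 | h1
    · left
      show e x * e y = e y * e x
      rw [← map_mul, h1, map_mul]
    · right
      show e x * e y = e y * e x * e z
      rw [← map_mul, h1, map_mul, map_mul]
  cent := by
    rintro _ ⟨x, hx, rfl⟩ hc
    rcases h.cent x hx (fun y hy => e.injective (by
      have h1 : e x * e y = e y * e x := hc (e y) ⟨y, hy, rfl⟩
      rw [map_mul, map_mul, h1])) with h1 | h1
    · left
      show e x = 1
      rw [h1, map_one]
    · right
      show e x = e z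
      rw [h1]
  self := by
    intro g hg hc
    obtain ⟨g, rfl⟩ := e.surjective g
    refine ⟨g, h.self g (e.injective (by rw [map_mul, map_mul, hg])) (fun x hx => e.injective ?_), rfl⟩
    have h1 : e g * e x = e x * e g := hc (e x) ⟨x, hx, rfl⟩
    rw [map_mul, map_mul, h1]

theorem card_b {G : Type u} [Group G] (h : Spor.IsoB G) : Nat.card G = 4154781481226426191177580544000000 := by
  obtain ⟨e⟩ := h
  rw [Nat.card_congr e.toEquiv]
  exact BM.KHAll.card_B

/-- `C_B(z)` has order `2^23 |Co_2|`. -/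
theorem card_cent : Nat.card (Subgroup.centralizer ({zz A} : Set Inst.M.G)) = 2 ^ 23 * 42305421312000 := by
  rw [Nat.card_congr (KFacts.Baby.Inst.eC A).toEquiv, A.grp.card_C]

/-- **The Baby Monster has no module with all orbits of `p'`-size, `p` odd dividing `|2^{1+22}.Co_2|`.** -/
theorem noPEx_b {S : Type u} [Group S] (h : Spor.IsoB S) {p : ℕ} (hp : p.Prime) (hp2 : p ≠ 2)
    (hd : p ∣ 42305421312000) : NoPEx p S := by
  have hc := card_b h
  have hfin : Finite S := Nat.finite_of_card_ne_zero (by rw [hc]; norm_num)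
  obtain ⟨f⟩ := KFacts.Baby.RowB.exists_iso h
  have := A.finite_G
  have hL := large_map f (KFacts.Baby.Inst.large A)
  have hQ : Nat.card ((PP Inst.M).map f.toMonoidHom) = 2 ^ 23 := by
    rw [← KFacts.Baby.CaseM.card_PP]
    exact (Nat.card_congr ((PP Inst.M).equivMapOfInjective f.toMonoidHom f.injective).toEquiv).symm
  refine noPEx_large hL hp hp2 ?_ ?_ 2048 ?_ ?_
  · rw [hQ]
    intro h1
    exact hp2 ((Nat.prime_dvd_prime_iff_eq hp Nat.prime_two).1 (hp.dvd_of_dvd_pow h1))
  · have h1 : Nat.card (Subgroup.centralizer ({f (zz A)} : Set S)) =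
        Nat.card (Subgroup.centralizer ({zz A} : Set Inst.M.G)) := by
      refine (Nat.card_congr (f.toEquiv.subtypeEquiv ?_)).symm
      intro x
      rw [Subgroup.mem_centralizer_singleton_iff, Subgroup.mem_centralizer_singleton_iff]
      show x * zz A = zz A * x ↔ f x * f (zz A) = f (zz A) * f x
      rw [← map_mul, ← map_mul, f.injective.eq_iff]
    rw [h1, card_cent]
    exact Dvd.dvd.mul_left hd _
  · rw [hQ]
    norm_num
  · rw [hc]
    have h3 : 3 ≤ p := by
      have := hp.two_le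
      omega
    have h4 : (4154781481226426191177580544000000 : ℕ) ≤ 3 ^ 71 := by norm_num
    calc (4154781481226426191177580544000000 : ℕ) ^ 4 ≤ (3 ^ 71) ^ 4 := Nat.pow_le_pow_left h4 _
      _ = 3 ^ 284 := by rw [← pow_mul]
      _ < 3 ^ 2048 := Nat.pow_lt_pow_right (by norm_num) (by norm_num)
      _ ≤ p ^ 2048 := Nat.pow_le_pow_left h3 _

variable {K : Type u} [Group K]

theorem ek_b (h : Spor.IsoB K) {p : ℕ} (hp : p.Prime) (hp2 : p ≠ 2) (hd : p ∣ 42305421312000) : EK.{u} p K := by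
  refine Cfsg.Agent.H149.RI.ek_of_noPEx (fun E _ _ π h1 h2 h3 => ?_) (noPEx_b h hp hp2 hd)
  rcases (Nat.dvd_prime Nat.prime_two).1 (H620.RIM.dvd_b h E π h1 h2 h3) with h4 | h4
  · exact Or.inl h4
  · right
    rw [h4]
    exact Nat.prime_two

/-- **`EK 3 B`** -/
theorem ek_three (h : Spor.IsoB K) : EK.{u} 3 K := ek_b h Nat.prime_three (by norm_num) (by norm_num)

/-- **`EK 5 B`** -/
theorem ek_five (h : Spor.IsoB K) : EK.{u} 5 K := ek_b h (by norm_num) (by norm_num) (by norm_num)

end Cfsg.Agent.H30.RIM.Baby
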