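import Cfsg.Agent.H149.RI.Large

/-!
# S4816, module side: groups with a large extraspecial 2-subgroup (helper30)

`noPEx_large`: `Q` large extraspecial in `S` with centre `⟨z⟩`, `p` odd dividing `|C_S(z)|`, `2 (D - 1)² < |Q|` and
`|S| ^ 4 < p ^ D`: then `NoPEx p S`.  An element `f` of order `p` of `C_S(z)` has `b = [f, g] ≠ 1` for some `g ∈ Q`, and
`|V : C_V(z)| ≤ |V : C_V(f)| ^ 4 ≤ n_p ^ 4`.
-/

set_option autoImplicit false

namespace Cfsg.Agent.H30.RIM

open Cfsg Cfsg.Agent.Co2Type.Quad Cfsg.Agent.H88.RIM Cfsg.Agent.H665.RIM Cfsg.Agent.H149.RI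

universe u

section

variable {G V : Type*} [Group G] [AddCommGroup V] [DistribMulAction G V]

/-- `v ↦ g v - v` -/
def dl (V : Type*) [AddCommGroup V] [DistribMulAction G V] (g : G) : V →+ V :=
  DistribSMul.toAddMonoidHom V g - AddMonoidHom.id V

theorem dl_apply (g : G) (v : V) : dl V g v = g • v - v := rfl

theorem mem_ker_dl {g : G} {v : V} : v ∈ (dl V g).ker ↔ g • v = v := by
  rw [AddMonoidHom.mem_ker, dl_apply, sub_eq_zero]

theorem index_conj (g x : G) : (dl V (x * g * x⁻¹)).ker.index = (dl V g).ker.index := by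
  have h1 : (dl V (x * g * x⁻¹)).ker = (dl V g).ker.map (DistribSMul.toAddMonoidHom V x) := by
    ext v
    rw [AddSubgroup.mem_map, mem_ker_dl]
    constructor
    · intro h
      refine ⟨x⁻¹ • v, ?_, ?_⟩
      · rw [mem_ker_dl]
        calc g • x⁻¹ • v = x⁻¹ • ((x * g * x⁻¹) • v) := by
              rw [smul_smul, smul_smul]
              congr 1
              group
          _ = _ := by rw [h]
      · show x • x⁻¹ • v = v
        rw [smul_inv_smul]
    · rintro ⟨w, hw, rfl⟩
      rw [mem_ker_dl] at hw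
      show (x * g * x⁻¹) • (x • w) = x • w
      rw [smul_smul, inv_mul_cancel_right, mul_smul, hw]
  rw [h1]
  exact AddSubgroup.index_map_of_bijective (MulAction.bijective x) _

theorem index_le_mul [Finite V] {g h k : G} (hk : ∀ v : V, g • v = v → h • v = v → k • v = v) :
    (dl V k).ker.index ≤ (dl V g).ker.index * (dl V h).ker.index := by
  have h1 : (dl V g).ker ⊓ (dl V h).ker ≤ (dl V k).ker := by
    rintro v ⟨hv1, hv2⟩
    exact mem_ker_dl.2 (hk v (mem_ker_dl.1 hv1) (mem_ker_dl.1 hv2))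
  exact (Nat.le_of_dvd (Nat.pos_of_ne_zero AddSubgroup.index_ne_zero_of_finite)
    (AddSubgroup.index_dvd_of_le h1)).trans AddSubgroup.index_inf_le

/-- `|V : C_V(z)| ≤ |V : C_V(f)| ^ 4` -/
theorem index_z_le [Finite V] {Q : Subgroup G} {z : G} (h : Large Q z) {f : G} (hf : f * z = z * f) (hfQ : f ∉ Q) :
    (dl V z).ker.index ≤ (dl V f).ker.index ^ 4 := by
  obtain ⟨g, hg, hfg⟩ : ∃ g ∈ Q, f * g ≠ g * f := by
    by_contra hcon
    push Not at hcon
    exact hfQ (h.self f hf hcon)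
  set b := f * g * f⁻¹ * g⁻¹ with hb
  have hbQ : b ∈ Q := Q.mul_mem (h.conj_mem f hf g hg) (Q.inv_mem hg)
  have hb1 : b ≠ 1 := by
    intro h1
    apply hfg
    rw [hb, mul_inv_eq_one, mul_inv_eq_iff_eq_mul] at h1
    exact h1
  have hi : 1 ≤ (dl V f).ker.index := Nat.pos_of_ne_zero AddSubgroup.index_ne_zero_of_finite
  have h2 : (dl V b).ker.index ≤ (dl V f).ker.index ^ 2 := by
    have h3 := index_le_mul (V := V) (g := f) (h := g * f * g⁻¹) (k := b) (by
      intro v h1 h2
      have e : b = f * (g * f * g⁻¹)⁻¹ := by rw [hb]; group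
      rw [e, mul_smul, inv_smul_eq_iff.2 h2.symm, h1])
    rw [index_conj] at h3
    rw [pow_two]
    exact h3
  have h24 : (dl V f).ker.index ^ 2 ≤ (dl V f).ker.index ^ 4 := Nat.pow_le_pow_right hi (by norm_num)
  by_cases hbz : b = z
  · rw [hbz] at h2
    exact h2.trans h24
  obtain ⟨y, hy, hby⟩ : ∃ y ∈ Q, b * y ≠ y * b := by
    by_contra hcon
    push Not at hcon
    rcases h.cent b hbQ hcon with h1 | h1
    · exact hb1 h1
    · exact hbz h1
  have h3 : b * y = y * b * z := (h.comm b hbQ y hy).resolve_left hby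
  have h4 := index_le_mul (V := V) (g := b) (h := y⁻¹ * b * y⁻¹⁻¹) (k := z) (by
    intro v h1 h2
    have e : z = b⁻¹ * (y⁻¹ * b * y⁻¹⁻¹) := by
      rw [inv_inv, mul_assoc y⁻¹, h3]
      group
    rw [e, mul_smul, h2, inv_smul_eq_iff.2 h1.symm])
  rw [index_conj] at h4
  calc (dl V z).ker.index ≤ (dl V b).ker.index * (dl V b).ker.index := h4
    _ ≤ (dl V f).ker.index ^ 2 * (dl V f).ker.index ^ 2 := Nat.mul_le_mul h2 h2
    _ = (dl V f).ker.index ^ 4 := by ring

/-- `Q` as a large extraspecial subgroup of itself -/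
theorem large_top {Q : Subgroup G} {z : G} (h : Large Q z) : Large (⊤ : Subgroup Q) ⟨z, h.z_mem⟩ where
  z_mem := Subgroup.mem_top _
  z_ne := fun e => h.z_ne (congrArg Subtype.val e)
  z_sq := Subtype.ext h.z_sq
  comm_z := fun x _ => Subtype.ext (h.comm_z x x.2)
  conj_mem := fun _ _ _ _ => Subgroup.mem_top _
  sq := fun x _ => (h.sq x x.2).imp (fun e => Subtype.ext e) (fun e => Subtype.ext e)
  comm := fun x _ y _ => (h.comm x x.2 y y.2).imp (fun e => Subtype.ext e) (fun e => Subtype.ext e)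
  cent := fun x _ hx => (h.cent x x.2 fun y hy => congrArg Subtype.val (hx ⟨y, hy⟩ (Subgroup.mem_top _))).imp
    (fun e => Subtype.ext e) (fun e => Subtype.ext e)
  self := fun _ _ _ => Subgroup.mem_top _

/-- `p ^ D ≤ |V : C_V(z)|` -/
theorem le_index_z [Finite V] {Q : Subgroup G} [Finite Q] {z : G} (h : Large Q z) {p : ℕ} (hp : p.Prime)
    (hV : ∀ v : V, p • v = 0) (hp2 : p ≠ 2) (hQ : ¬ p ∣ Nat.card Q) (hz : ∃ v : V, z • v ≠ v) (D : ℕ)
    (hD : 2 * (D - 1) ^ 2 < Nat.card Q) : p ^ D ≤ (dl V z).ker.index := by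
  rw [AddSubgroup.index_ker]
  have hst : ∀ (q : Q), ∀ w ∈ (dl V z).range, (q : G) • w ∈ (dl V z).range := by
    rintro q _ ⟨v, rfl⟩
    refine ⟨(q : G) • v, ?_⟩
    rw [dl_apply, dl_apply, smul_sub, ← mul_smul, ← mul_smul, h.comm_z q q.2]
  let _ : DistribMulAction Q (dl V z).range :=
    { smul := fun q w => ⟨(q : G) • (w : V), hst q w w.2⟩
      one_smul := fun w => Subtype.ext (one_smul G (w : V))
      mul_smul := fun q r w => Subtype.ext (mul_smul (q : G) (r : G) (w : V))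
      smul_zero := fun q => Subtype.ext (smul_zero (q : G))
      smul_add := fun q v w => Subtype.ext (smul_add (q : G) (v : V) (w : V)) }
  have hsm : ∀ (q : Q) (w : (dl V z).range), ((q • w : (dl V z).range) : V) = (q : G) • (w : V) := fun q w => rfl
  have hcard : Nat.card (⊤ : Subgroup Q) = Nat.card Q := Subgroup.card_top
  refine large_card (large_top h) hp (fun w => ?_) hp2 (by rwa [hcard]) ?_ D (by rwa [hcard])
  · apply Subtype.ext
    show p • (w : V) = 0
    exact hV _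
  · obtain ⟨v, hv⟩ := hz
    refine ⟨⟨dl V z v, v, rfl⟩, fun e => ?_⟩
    have h1 : z • (dl V z v) = dl V z v := congrArg Subtype.val e
    rw [dl_apply, smul_sub, ← mul_smul, h.z_sq, one_smul] at h1
    have h2 : (2 : ℕ) • (z • v - v) = 0 := by
      rw [two_nsmul]
      nth_rewrite 1 [← h1]
      abel
    have h3 : z • v - v = 0 := by
      have hc : Nat.Coprime 2 p := (Nat.coprime_primes Nat.prime_two hp).2 (Ne.symm hp2)
      have h4 : addOrderOf (z • v - v) ∣ 2 := addOrderOf_dvd_of_nsmul_eq_zero h2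
      have h5 : addOrderOf (z • v - v) ∣ p := addOrderOf_dvd_of_nsmul_eq_zero (hV _)
      have h6 : addOrderOf (z • v - v) ∣ 1 := by
        rw [← hc.gcd_eq_one]
        exact Nat.dvd_gcd h4 h5
      exact AddMonoid.addOrderOf_eq_one_iff.1 (Nat.dvd_one.1 h6)
    exact hv (sub_eq_zero.1 h3)

end

/-- **`NoPEx p S` from a large extraspecial subgroup.** -/
theorem noPEx_large {S : Type u} [Group S] [Finite S] {Q : Subgroup S} {z : S} (h : Large Q z) {p : ℕ} (hp : p.Prime)
    (hp2 : p ≠ 2) (hQ : ¬ p ∣ Nat.card Q) (hd : p ∣ Nat.card (Subgroup.centralizer ({z} : Set S))) (D : ℕ)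
    (hD : 2 * (D - 1) ^ 2 < Nat.card Q) (hnum : Nat.card S ^ 4 < p ^ D) : NoPEx p S := by
  intro V _ _ _ hV hnt hf hirr horb
  have : Fact p.Prime := ⟨hp⟩
  obtain ⟨⟨f, hfz⟩, hfo⟩ := exists_prime_orderOf_dvd_card' p hd
  have hfo' : orderOf f = p := by
    rw [← hfo]
    exact (Subgroup.orderOf_coe (⟨f, hfz⟩ : Subgroup.centralizer ({z} : Set S)))
  rw [Subgroup.mem_centralizer_singleton_iff] at hfz
  have hfQ : f ∉ Q := by
    intro hmem
    apply hQ
    rw [← hfo']
    exact Subgroup.orderOf_dvd_natCard Q hmem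
  have hpg : IsPGroup p (Subgroup.zpowers f) := IsPGroup.of_card (n := 1) (by rw [Nat.card_zpowers, hfo', pow_one])
  obtain ⟨P, hP⟩ := hpg.exists_le_sylow
  have h1 : fxV V (P : Subgroup S) ≤ (dl V f).ker := by
    intro v hv
    exact mem_ker_dl.2 (hv f (hP (Subgroup.mem_zpowers f)))
  have h2 : (dl V f).ker.index ≤ Nat.card S :=
    (Nat.le_of_dvd (Nat.pos_of_ne_zero AddSubgroup.index_ne_zero_of_finite) (AddSubgroup.index_dvd_of_le h1)).trans
      ((index_le_card_sylow P horb).trans (Nat.le_of_dvd Nat.card_pos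
        (P.card_dvd_index.trans (P : Subgroup S).index_dvd_card)))
  have h3 := index_z_le (V := V) h hfz hfQ
  have hz : ∃ v : V, z • v ≠ v := by
    by_contra hcon
    push Not at hcon
    exact h.z_ne (hf z hcon)
  have h4 := le_index_z (V := V) h hp hV hp2 hQ hz D hD
  have h5 : (dl V f).ker.index ^ 4 ≤ Nat.card S ^ 4 := Nat.pow_le_pow_left h2 4
  omega

end Cfsg.Agent.H30.RIM
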